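import Cfsg.Agent.Spor.S44M.C0
import Cfsg.Agent.Spor.S85.Grp
import Cfsg.Agent.Spor.MatChev
import Cfsg.Agent.Class.Sp

set_option autoImplicit false
set_option maxRecDepth 100000000
set_option Elab.async false

namespace Cfsg.Agent.Spor.S44M

theorem rels : AllP (fun w => A.eqS TT w 1 = true) (Ctx.sqRL 4 S85.RL) :=
  show AllP (fun w => A.eqS TT w 1 = true) [[0, 0], [2, 2], [4, 4], [6, 6], [6, 0, 6, 0], [6, 2, 6, 2, 6, 2], [2, 6, 2, 0, 2, 0, 2, 0, 2, 0, 2, 6, 2, 0, 2, 0, 2, 0, 2, 0], [6, 4, 6, 4], [2, 0, 2, 0, 2, 4, 2, 0, 2, 4, 0, 2, 0, 2, 4], [2, 4, 2, 4, 2, 4], [0, 2, 6, 2, 0, 2, 0, 6, 4, 2, 0, 6, 2, 4, 0, 2, 6, 2, 0, 2, 4], [8, 4, 8, 4], [8, 2, 8, 2], [9, 0, 8, 0], [8, 6, 8, 6, 8, 6], [8, 8, 8]] from AllP.cons r1 (AllP.cons r2 (AllP.cons r3 (AllP.cons r4 (AllP.cons r5 (AllP.cons r6 (AllP.cons r7 (AllP.cons r8 (AllP.cons r9 (AllP.cons r10 (AllP.cons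 r11 (AllP.cons r12 (AllP.cons r13 (AllP.cons r14 (AllP.cons r15 (AllP.cons r16 (AllP.nil))))))))))))))))

def e : Fin 2 ⊕ Fin 2 ≃ Fin 4 := finSumFinEquiv

theorem entJ : ∀ r c : Fin 2 ⊕ Fin 2,
    (dig A.B (A.mat Z (e r) (e c)) 0 : ℤ) % A.p = Matrix.J (Fin 2) ℤ r c % A.p ∧
    (dig A.B (A.mat Z (e r) (e c)) 1 : ℤ) % A.p = (0 : ℤ) % A.p := by
  decide +kernel

theorem iso {F : Type} [Field F] [Fintype F] (hF : Fintype.card F = 4) :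
    Nonempty (S85.P ≃* Matrix.symplecticGroup (Fin 2) F) := by
  obtain ⟨ω, hω⟩ := exists_omega (F := F) (by rw [hF])
  let X : Ctx A F (Fin 2 ⊕ Fin 2) :=
    Ctx.f4 A e (cast_eq_zero_of_card (k := 2) hF) ω hω (by decide +kernel)
  have hZ : Matrix.J (Fin 2) F = X.mk' Z :=
    Ctx.eq_mk'_two rfl (Matrix.J (Fin 2) ℤ) (fun _ _ => 0) (fun r c => by
      rw [← Matrix.map_J (Fin 2) (Int.castRingHom F)]; simp) entJ
  have hc := Ctx.codA_gen (X := X) gensOk (Ctx.exists_Sp formOk hZ)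
  exact iso_of_simple' S85.bound (by norm_num) S85.cert.pres (hc.pres Subtype.val_injective rels)
    S85.lbP S85.simpleP (hc.ne_one ne) (by
      rw [Class.card_Sp, Nat.card_eq_fintype_card, hF]; decide +kernel)

end Cfsg.Agent.Spor.S44M
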