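import Cfsg.Agent.Spor.S44M.D

set_option autoImplicit false
set_option maxRecDepth 100000000
set_option Elab.async false

namespace Cfsg.Agent.Spor.S44M

theorem gensOk : A.gensOk TT 5 = true := by decide +kernel

theorem r1 : A.eqS TT [0, 0] 1 = true := by decide +kernel

theorem r2 : A.eqS TT [2, 2] 1 = true := by decide +kernel

theorem r3 : A.eqS TT [4, 4] 1 = true := by decide +kernel

theorem r4 : A.eqS TT [6, 6] 1 = true := by decide +kernel

theorem r5 : A.eqS TT [6, 0, 6, 0] 1 = true := by decide +kernel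

theorem r6 : A.eqS TT [6, 2, 6, 2, 6, 2] 1 = true := by decide +kernel

theorem r7 : A.eqS TT [2, 6, 2, 0, 2, 0, 2, 0, 2, 0, 2, 6, 2, 0, 2, 0, 2, 0, 2, 0] 1 = true := by decide +kernel

theorem r8 : A.eqS TT [6, 4, 6, 4] 1 = true := by decide +kernel

theorem r9 : A.eqS TT [2, 0, 2, 0, 2, 4, 2, 0, 2, 4, 0, 2, 0, 2, 4] 1 = true := by decide +kernel

theorem r10 : A.eqS TT [2, 4, 2, 4, 2, 4] 1 = true := by decide +kernel

theorem r11 : A.eqS TT [0, 2, 6, 2, 0, 2, 0, 6, 4, 2, 0, 6, 2, 4, 0, 2, 6, 2, 0, 2, 4] 1 = true := by decide +kernel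

theorem r12 : A.eqS TT [8, 4, 8, 4] 1 = true := by decide +kernel

theorem r13 : A.eqS TT [8, 2, 8, 2] 1 = true := by decide +kernel

theorem r14 : A.eqS TT [9, 0, 8, 0] 1 = true := by decide +kernel

theorem r15 : A.eqS TT [8, 6, 8, 6, 8, 6] 1 = true := by decide +kernel

theorem r16 : A.eqS TT [8, 8, 8] 1 = true := by decide +kernel

theorem ne : band (Nat.blt 0 1 || Nat.blt 1 0) (A.entW TT [2] 0 1 1) = true := by decide +kernel

theorem formOk : A.formOk TT TR Z 5 = true := by decide +kernel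

end Cfsg.Agent.Spor.S44M
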