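import Cfsg.Agent.Spor.MatG

set_option autoImplicit false
set_option maxRecDepth 100000000
set_option Elab.async false
noncomputable section

namespace Cfsg.Agent.Spor.S44M

def A : Ar := ⟨2, 6, 4, 2, 65⟩
def TT : List (List Nat) := [[0x1, 0x40, 0x1000, 0x40000, 0x1040000, 0x40041000, 0x1000000040, 0x40000000041],
  [0x1, 0x40, 0x1000, 0x40000, 0x1040000, 0x40041000, 0x1000000040, 0x40000000041],
  [0x41040001040, 0x1041040041, 0x40041040001, 0x41001041040, 0x1040040001, 0x40041041040, 0x40001001040, 0x41040040041],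
  [0x41040001040, 0x1041040041, 0x40041040001, 0x41001041040, 0x1040040001, 0x40041041040, 0x40001001040, 0x41040040041],
  [0x40041, 0x41001, 0x41040, 0x1041, 0x40041041040, 0x41001001041, 0x41040040041, 0x1041041001],
  [0x40041, 0x41001, 0x41040, 0x1041, 0x40041041040, 0x41001001041, 0x41040040041, 0x1041041001],
  [0x1, 0x40, 0x1000, 0x40000, 0x1041040, 0x40001041, 0x1000040041, 0x40000041001],
  [0x1, 0x40, 0x1000, 0x40000, 0x1041040, 0x40001041, 0x1000040041, 0x40000041001],
  [0x41, 0x1, 0x40040, 0x41041, 0x40040000000, 0x41041000000, 0x41000000000, 0x1000000000],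
  [0x40, 0x41, 0x41040, 0x1041, 0x40041000000, 0x41001000000, 0x40000000000, 0x41000000000]]
def TR : List (List Nat) := [[0x40000000001, 0x41000000040, 0x40001000, 0x41040000, 0x1000000, 0x40000000, 0x1000000000, 0x40000000000],
  [0x40001001040, 0x41040040041, 0x1040040001, 0x40041041040, 0x1040041040, 0x40041001041, 0x40001040041, 0x41040041001],
  [0x41040040041, 0x1041041001, 0x40041041040, 0x41001001041, 0x40041000000, 0x41001000000, 0x41040000000, 0x1041000000],
  [0x41040000001, 0x1041000040, 0x40041001000, 0x41001040000, 0x1000000, 0x40000000, 0x1000000000, 0x40000000000],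
  [0x40041, 0x41001, 0x40000, 0x41000, 0x40000000, 0x41000000, 0x41040000000, 0x1041000000]]
def Z : List Nat := [0x1000000, 0x40000000, 0x1000000000, 0x40000000000, 0x1, 0x40, 0x1000, 0x40000]

end Cfsg.Agent.Spor.S44M
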